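import Groth.Agent.Lib.AlgSpace.LocP
import Groth.Agent.Lib.AlgSpDecent.DenseOpen
import Groth.Prelude.Def_AlgSpCov

/-!
# Cech nerves of affine atlases
-/

universe u

set_option backward.isDefEq.respectTransparency.types false
set_option linter.unusedVariables false

open CategoryTheory CategoryTheory.Limits AlgebraicGeometry AlgSp Opposite
open Groth.Agent.AlgSpace Groth.Agent.AlgSpDecent

namespace Groth.Agent.CechAff15

variable {S : Scheme.{u}}

/-- The projection of a represented fibre product along a map from a scheme separated over the base is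
separated. -/
theorem isSeparated_snd {F : Sp S} {U W W' : Over S} [IsSeparated U.hom] {φ : (yon S).obj U ⟶ F}
    {b : (yon S).obj W ⟶ F} {t : W' ⟶ U} {s : W' ⟶ W}
    (sq : IsPullback ((yon S).map t) ((yon S).map s) φ b) : IsSeparated s.left := by
  let m : W'.left ⟶ pullback U.hom W.hom := pullback.lift t.left s.left (by rw [Over.w t, Over.w s])
  have : Mono m := ⟨fun {T} a c e => by
    have hm₁ : m ≫ pullback.fst U.hom W.hom = t.left := pullback.lift_fst _ _ _
    have hm₂ : m ≫ pullback.snd U.hom W.hom = s.left := pullback.lift_snd _ _ _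
    have e₁ : a ≫ t.left = c ≫ t.left := by rw [← hm₁, reassoc_of% e]
    have e₂ : a ≫ s.left = c ≫ s.left := by rw [← hm₂, reassoc_of% e]
    have hb : c ≫ W'.hom = a ≫ W'.hom := by rw [← Over.w s, reassoc_of% e₂]
    let a' : Over.mk (a ≫ W'.hom) ⟶ W' := Over.homMk a rfl
    let b' : Over.mk (a ≫ W'.hom) ⟶ W' := Over.homMk c hb
    have : a' = b' := (yon S).map_injective (sq.hom_ext
      (by rw [← Functor.map_comp, ← Functor.map_comp]; exact congrArg _ (Over.OverMorphism.ext e₁))
      (by rw [← Functor.map_comp, ← Functor.map_comp]; exact congrArg _ (Over.OverMorphism.ext e₂)))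
    exact congrArg (fun k => k.left) this⟩
  have hm : m ≫ pullback.snd U.hom W.hom = s.left := pullback.lift_snd _ _ _
  rw [← hm]
  infer_instance

/-- A non-empty finite wide fibre product of representable etale maps from schemes is a scheme etale over
the base, with the properties inherited along the projections. -/
theorem exists_wide {X : Sp S} (Q : Over S → Prop) {κ : Type u} (U : κ → Over S)
    (g : ∀ k, (yon S).obj (U k) ⟶ X) (hg : ∀ k, RepWith @Etale (g k)) (h0 : ∀ k, Q (U k))
    (hstep : ∀ (W : Over S) (b : (yon S).obj W ⟶ X), Q W → ∀ (k : κ) (W' : Over S) (t : W' ⟶ U k)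
      (s : W' ⟶ W), IsPullback ((yon S).map t) ((yon S).map s) (g k) b → Q W') :
    ∀ (n : ℕ) (c : Fin (n + 1) → κ), ∃ (W : Over S) (b : (yon S).obj W ⟶ X),
      Q W ∧ RepWith @Etale b ∧
      Nonempty { e : (yon S).obj W ≅ widePullback X (fun i => (yon S).obj (U (c i))) (fun i => g (c i)) //
        e.hom ≫ WidePullback.base (fun i => g (c i)) = b } := by
  suffices key : ∀ (n : ℕ) (c : Fin (n + 1) → κ), ∃ (W : Over S) (b : (yon S).obj W ⟶ X)
      (π : ∀ i, (yon S).obj W ⟶ (yon S).obj (U (c i))), Q W ∧ RepWith @Etale b ∧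
      (∀ i, π i ≫ g (c i) = b) ∧
      (∀ (Z : Sp S) (h : Z ⟶ X) (l : ∀ i, Z ⟶ (yon S).obj (U (c i))), (∀ i, l i ≫ g (c i) = h) →
        ∃ m : Z ⟶ (yon S).obj W, ∀ i, m ≫ π i = l i) ∧
      (∀ (Z : Sp S) (m m' : Z ⟶ (yon S).obj W), (∀ i, m ≫ π i = m' ≫ π i) → m = m') by
    intro n c
    obtain ⟨W, b, π, hQ, hb, hπ, hl, hu⟩ := key n c
    let e₁ : (yon S).obj W ⟶ widePullback X _ (fun i => g (c i)) := WidePullback.lift b π hπ
    obtain ⟨e₂, he₂⟩ := hl _ (WidePullback.base (fun i => g (c i))) (fun i => WidePullback.π _ i)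
      (fun i => WidePullback.π_arrow _ _)
    have h1 : e₁ ≫ e₂ = 𝟙 _ := hu _ _ _ fun i => by
      rw [Category.assoc, he₂, WidePullback.lift_π, Category.id_comp]
    have h2 : e₂ ≫ e₁ = 𝟙 _ := WidePullback.hom_ext _ _ _
      (fun i => by rw [Category.assoc, WidePullback.lift_π, he₂, Category.id_comp])
      (by rw [Category.assoc, WidePullback.lift_base, Category.id_comp, ← hπ 0, ← Category.assoc, he₂,
        WidePullback.π_arrow])
    exact ⟨W, b, hQ, hb, ⟨⟨⟨e₁, e₂, h1, h2⟩, WidePullback.lift_base _ _ _ _⟩⟩⟩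
  intro n
  induction n with
  | zero =>
    intro c
    have hc : ∀ i, c i = c 0 := fun i => congrArg c (Fin.eq_zero i)
    refine ⟨U (c 0), g (c 0), fun i => eqToHom (by rw [hc i]), h0 _, hg _, fun i => ?_, fun Z h l hl => ?_,
      fun Z m m' e => ?_⟩
    · obtain rfl := Fin.eq_zero i
      simp
    · refine ⟨l 0, fun i => ?_⟩
      obtain rfl := Fin.eq_zero i
      simp
    · simpa using e 0
  | succ n ih =>
    intro c
    obtain ⟨W, b, π, hQ, hb, hπ, hl, hu⟩ := ih fun i => c (Fin.castSucc i)
    obtain ⟨W', s, tf, sq⟩ := (hg (c (Fin.last _))).1 b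
    obtain ⟨t, rfl⟩ := (yon S).map_surjective tf
    refine ⟨W', (yon S).map s ≫ b,
      Fin.lastCases (motive := fun i => (yon S).obj W' ⟶ (yon S).obj (U (c i))) ((yon S).map t)
        (fun i => (yon S).map s ≫ π i), hstep W b hQ _ W' t s sq, ?_, fun i => ?_, fun Z h l hlh => ?_,
      fun Z m m' e => ?_⟩
    · exact repWith_comp (repWith_of_isPullback sq (hg _)) hb
    · induction i using Fin.lastCases with
      | last => rw [Fin.lastCases_last]; exact sq.w
      | cast i => rw [Fin.lastCases_castSucc, Category.assoc, hπ]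
    · obtain ⟨m₀, hm₀⟩ := hl Z h (fun i => l (Fin.castSucc i)) fun i => hlh _
      have hb' : m₀ ≫ b = h := by rw [← hπ 0, ← Category.assoc, hm₀]; exact hlh _
      refine ⟨sq.lift (l (Fin.last _)) m₀ (by rw [hlh, hb']), fun i => ?_⟩
      induction i using Fin.lastCases with
      | last => rw [Fin.lastCases_last, sq.lift_fst]
      | cast i => rw [Fin.lastCases_castSucc, sq.lift_snd_assoc, hm₀]
    · refine sq.hom_ext ?_ (hu _ _ _ fun i => ?_)
      · have := e (Fin.last _)
        rwa [Fin.lastCases_last] at this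
      · have := e (Fin.castSucc i)
        rw [Fin.lastCases_castSucc] at this
        rwa [Category.assoc, Category.assoc]

theorem etale_le_flat : (@Etale : MorphismProperty Scheme.{u}) ≤ @Flat := fun _ _ _ _ => inferInstance

theorem etale_le_lfp : (@Etale : MorphismProperty Scheme.{u}) ≤ @LocallyOfFinitePresentation :=
  fun _ _ _ _ => inferInstance

theorem isFppfCover_of_etale {X : Sp S} (hX : IsAlgSpace X) {κ : Type u} {U : κ → Over S}
    {g : ∀ k, (yon S).obj (U k) ⟶ X} (hg : ∀ k, RepWith @Etale (g k))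
    (hc : ∀ x, ∃ k, x ∈ Set.range (Points.map (g k))) : IsFppfCover (fun k => (yon S).obj (U k)) g :=
  ⟨fun k => ⟨locP_mono (fun _ _ f (_ : Etale f) => inferInstanceAs (Flat f)) (locP_of_repWith hX (hg k)),
    locP_mono (fun _ _ f (_ : Etale f) => inferInstanceAs (LocallyOfFinitePresentation f)) (locP_of_repWith hX (hg k))⟩, hc⟩

/-- Cech descent from affines. -/
theorem descending_property {X : Sp S} (hX : IsAlgSpace X)
    (P : ∀ ⦃U : Sp S⦄, (U ⟶ X) → Prop)
    (hP : ∀ ⦃U : Sp S⦄ (a : U ⟶ X), IsAlgSpace U →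
      ∀ ⦃ι : Type u⦄ (Ui : ι → Sp S) (g : ∀ i, Ui i ⟶ U), (∀ i, IsAlgSpace (Ui i)) →
      IsFppfCover Ui g →
      (∀ (n : ℕ) (c : Fin (n + 1) → ι),
        P (WidePullback.base (fun k : Fin (n + 1) => g (c k)) ≫ a)) → P a)
    (haff : ∀ ⦃U : Sp S⦄ (a : U ⟶ X) (T : Over S) (e : U ≅ (yon S).obj T), IsAffine T.left →
      LocP @Flat a → LocP @LocallyOfFinitePresentation a → P a) :
    P (𝟙 X) := by
  -- separated schemes
  have hsep : ∀ ⦃F : Sp S⦄ (a : F ⟶ X) (T : Over S) (e : (yon S).obj T ≅ F), T.left.IsSeparated →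
      LocP @Flat a → LocP @LocallyOfFinitePresentation a → P a := by
    intro F a T e hT hfl hfp
    let κ := {O : T.left.Opens // IsAffineOpen O}
    let U : κ → Over S := fun O => Over.mk (O.1.ι ≫ T.hom)
    let g : ∀ k, (yon S).obj (U k) ⟶ F := fun O => (yon S).map (Over.homMk O.1.ι rfl) ≫ e.hom
    have hg : ∀ k, RepWith @Etale (g k) := fun O =>
      repWith_comp ((repWith_yon_map_iff _ _).2 (show Etale O.1.ι from inferInstance))
        (MorphismProperty.of_isIso (RepWith (S := S) @Etale) e.hom)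
    have hF : IsAlgSpace F := (IsAlgSpace.yon_obj T).of_iso e
    refine hP a hF _ g (fun _ => IsAlgSpace.yon_obj _) (isFppfCover_of_etale hF hg fun x => ?_) fun n c => ?_
    · obtain ⟨z, rfl⟩ := (bijective_map_iso e.hom).2 x
      obtain ⟨t, rfl⟩ := (Points.schemeHomeo T).surjective z
      obtain ⟨O, hO, htO, -⟩ := exists_isAffineOpen_mem_and_subset (X := T.left) (x := t) (U := ⊤) trivial
      refine ⟨⟨O, hO⟩, Points.ofScheme (U ⟨O, hO⟩) (⟨t, htO⟩ : ↥O.toScheme), ?_⟩
      rw [← Points.ofPt_eq_map_ofScheme]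
      exact (ofPt_map_comp _ e.hom _).trans (Points.ofPt_eq_map_ofScheme _ _)
    · obtain ⟨W, b, hQ, hb, ⟨⟨i, hi⟩⟩⟩ := exists_wide (fun W => IsAffine W.left) U g hg (fun O => O.2)
        (fun W b hW k W' t s sq => by
          haveI : IsAffine (U k).left := k.2
          haveI : IsAffine W.left := hW
          haveI := hT
          obtain ⟨b', hb'⟩ := (yon S).map_surjective (b ≫ e.inv)
          have sq' : IsPullback t s (Over.homMk k.1.ι rfl : U k ⟶ T) b' := by
            refine IsPullback.of_map_of_faithful (yon S) (IsPullback.of_iso sq (Iso.refl _) (Iso.refl _)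
              (Iso.refl _) e.symm (by simp) (by simp) ?_ ?_)
            · simp [g, Category.assoc]
            · rw [hb']; simp
          have sq'' := sq'.map (Over.forget S)
          haveI : IsAffineHom s.left := MorphismProperty.of_isPullback (P := @IsAffineHom) sq''
            (IsAffineHom.of_comp (k.1.ι : (U k).left ⟶ T.left) (terminal.from T.left))
          exact isAffine_of_isAffineHom s.left) n c
      have e1 : WidePullback.base (fun k => g (c k)) = i.inv ≫ b := (i.eq_inv_comp).2 hi
      rw [e1]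
      refine haff _ W i.symm hQ ?_ ?_
      · exact locP_comp (((IsAlgSpace.yon_obj W).of_iso i)) hF hX
          (locP_mono etale_le_flat (locP_of_repWith hF
            (repWith_comp (MorphismProperty.of_isIso (RepWith (S := S) @Etale) i.inv) hb))) hfl
      · exact locP_comp (((IsAlgSpace.yon_obj W).of_iso i)) hF hX
          (locP_mono etale_le_lfp (locP_of_repWith hF
            (repWith_comp (MorphismProperty.of_isIso (RepWith (S := S) @Etale) i.inv) hb))) hfp
  obtain ⟨A, p, hpe, hps⟩ := hX.atlas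
  let κ := {O : A.left.Opens // IsAffineOpen O}
  let U : κ → Over S := fun O => Over.mk (O.1.ι ≫ A.hom)
  let g : ∀ k, (yon S).obj (U k) ⟶ X := fun O => (yon S).map (Over.homMk O.1.ι rfl) ≫ p
  have hg : ∀ k, RepWith @Etale (g k) := fun O => repWith_etale_restrict hpe O.1
  refine hP (𝟙 X) hX _ g (fun _ => IsAlgSpace.yon_obj _) (isFppfCover_of_etale hX hg fun x => ?_) fun n c => ?_
  · obtain ⟨t, rfl⟩ := surjective_ofPt hps x
    obtain ⟨O, hO, htO, -⟩ := exists_isAffineOpen_mem_and_subset (X := A.left) (x := t) (U := ⊤) trivial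
    refine ⟨⟨O, hO⟩, Points.ofScheme (U ⟨O, hO⟩) (⟨t, htO⟩ : ↥O.toScheme), ?_⟩
    rw [← Points.ofPt_eq_map_ofScheme]
    exact ofPt_map_comp _ p _
  · obtain ⟨W, b, hQ, hb, ⟨⟨i, hi⟩⟩⟩ := exists_wide (fun W => W.left.IsSeparated) U g hg
      (fun O => have : IsAffine (U O).left := O.2; inferInstance)
      (fun W b hW k W' t s sq => by
        haveI : IsAffine (U k).left := k.2
        haveI : IsSeparated (U k).hom := IsSeparated.of_comp (U k).hom (terminal.from S)
        haveI := isSeparated_snd sq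
        haveI := hW
        refine ⟨?_⟩
        rw [← terminal.comp_from s.left]
        infer_instance) n c
    have e1 : WidePullback.base (fun k => g (c k)) ≫ 𝟙 X = i.inv ≫ b := by
      rw [Category.comp_id]; exact (i.eq_inv_comp).2 hi
    rw [e1]
    have hW := ((IsAlgSpace.yon_obj W).of_iso i)
    have he := locP_of_repWith hX (repWith_comp (MorphismProperty.of_isIso (RepWith (S := S) @Etale) i.inv) hb)
    exact hsep _ W i hQ (locP_mono etale_le_flat he)
      (locP_mono etale_le_lfp he)

end Groth.Agent.CechAff15
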